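import Cfsg.Agent.Lib.PiClasses.Count
import Cfsg.Agent.Lib.BlocksChars5.Basic
import Cfsg.Agent.Lib.Characters.Linear
import Cfsg.Agent.S0581

/-!
# Classes of π-elements: arithmetic of π-parts, nilpotent Hall subgroups, degree bound

Preparation for the theorem of Burness, Monteiro, Moretó and others: many classes of π-elements
force a nilpotent Hall π-subgroup.
-/

set_option autoImplicit false

namespace Cfsg.Agent.Lib.PiClasses98

open Cfsg.Agent.Lib.PiClasses

universe u

/-! ## π-parts -/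

/-- The π-part of a natural number. -/
def piPart (π : Finset ℕ) (n : ℕ) : ℕ := π.prod fun r => r ^ n.factorization r

theorem piPart_pos {π : Finset ℕ} (hπ : ∀ r ∈ π, r.Prime) (n : ℕ) : 0 < piPart π n :=
  Finset.prod_pos fun r hr => pow_pos (hπ r hr).pos _

theorem piPart_factorization {π : Finset ℕ} (hπ : ∀ r ∈ π, r.Prime) (n s : ℕ) :
    (piPart π n).factorization s = if s ∈ π then n.factorization s else 0 := by
  rw [piPart, Nat.factorization_prod fun r hr => pow_ne_zero _ (hπ r hr).ne_zero,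
    Finsupp.finsetSum_apply]
  rw [← Finset.sum_ite_eq π s fun r => n.factorization r]
  refine Finset.sum_congr rfl fun r hr => ?_
  rw [(hπ r hr).factorization_pow, Finsupp.single_apply]
  by_cases h : r = s
  · subst h; simp
  · rw [if_neg h, if_neg (Ne.symm h)]

theorem piPart_dvd {π : Finset ℕ} (hπ : ∀ r ∈ π, r.Prime) {n : ℕ} (hn : n ≠ 0) :
    piPart π n ∣ n := by
  rw [← Nat.factorization_le_iff_dvd (piPart_pos hπ n).ne' hn]
  intro s
  rw [piPart_factorization hπ]
  split <;> omega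

theorem mem_of_dvd_piPart {π : Finset ℕ} (hπ : ∀ r ∈ π, r.Prime) {n s : ℕ} (hs : s.Prime)
    (h : s ∣ piPart π n) : s ∈ π := by
  by_contra hn
  have := hs.factorization_pos_of_dvd (piPart_pos hπ n).ne' h
  rw [piPart_factorization hπ, if_neg hn] at this
  exact Nat.lt_irrefl _ this

theorem dvd_piPart {π : Finset ℕ} (hπ : ∀ r ∈ π, r.Prime) {a n : ℕ} (ha : a ≠ 0) (hn : n ≠ 0)
    (han : a ∣ n) (h : ∀ s : ℕ, s.Prime → s ∣ a → s ∈ π) : a ∣ piPart π n := by
  rw [← Nat.factorization_le_iff_dvd ha (piPart_pos hπ n).ne']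
  intro s
  rw [piPart_factorization hπ]
  split
  · exact (Nat.factorization_le_iff_dvd ha hn).2 han s
  · rename_i hns
    by_cases hs : s.Prime
    · rw [Nat.factorization_eq_zero_of_not_dvd fun hd => hns (h s hs hd)]
    · simp [Nat.factorization_eq_zero_of_not_prime a hs]

theorem piPart_dvd_piPart {π : Finset ℕ} {a n : ℕ} (ha : a ≠ 0) (hn : n ≠ 0)
    (han : a ∣ n) : piPart π a ∣ piPart π n :=
  Finset.prod_dvd_prod_of_dvd _ _ fun r _ =>
    pow_dvd_pow r ((Nat.factorization_le_iff_dvd ha hn).2 han r)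

theorem piPart_eq {π : Finset ℕ} (hπ : ∀ r ∈ π, r.Prime) {m n : ℕ} (hn : n ≠ 0) (hm : m ∣ n)
    (h1 : ∀ s : ℕ, s.Prime → s ∣ m → s ∈ π) (h2 : ∀ r ∈ π, ¬ r ∣ n / m) : piPart π n = m := by
  have hm0 : m ≠ 0 := ne_zero_of_dvd_ne_zero hn hm
  refine (Nat.dvd_antisymm (dvd_piPart hπ hm0 hn hm h1) ?_).symm
  rw [← Nat.factorization_le_iff_dvd (piPart_pos hπ n).ne' hm0]
  intro s
  rw [piPart_factorization hπ]
  split
  · rename_i hs
    have h := Nat.factorization_eq_zero_of_not_dvd (h2 s hs)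
    rw [Nat.factorization_div hm, Finsupp.tsub_apply] at h
    omega
  · omega

theorem piPart_erase {π : Finset ℕ} {r : ℕ} (hr : r ∈ π) (n : ℕ) :
    piPart π n = r ^ n.factorization r * piPart (π.erase r) n :=
  (Finset.mul_prod_erase π _ hr).symm

theorem piPart_singleton (r n : ℕ) : piPart {r} n = r ^ n.factorization r :=
  Finset.prod_singleton _ _

theorem coprime_piPart_div {π : Finset ℕ} (hπ : ∀ r ∈ π, r.Prime) {n : ℕ} (hn : n ≠ 0) :
    (piPart π n).Coprime (n / piPart π n) := by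
  refine Nat.coprime_of_dvd fun s hs h1 h2 => ?_
  have hd := piPart_dvd hπ hn
  have hq : n / piPart π n ≠ 0 :=
    (Nat.div_pos (Nat.le_of_dvd (Nat.pos_of_ne_zero hn) hd) (piPart_pos hπ n)).ne'
  have h := hs.factorization_pos_of_dvd hq h2
  rw [Nat.factorization_div hd, Finsupp.tsub_apply, piPart_factorization hπ,
    if_pos (mem_of_dvd_piPart hπ hs h1), Nat.sub_self] at h
  exact Nat.lt_irrefl _ h

/-- A proper divisor of the π-part is smaller by a factor `p`. -/
theorem mul_le_of_dvd_of_ne {π : Finset ℕ} {p : ℕ} (hπ : ∀ r ∈ π, r.Prime) (hp : ∀ r ∈ π, p ≤ r)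
    {a n : ℕ} (ha : a ∣ piPart π n) (hne : a ≠ piPart π n) : p * a ≤ piPart π n := by
  obtain ⟨b, hb⟩ := ha
  have hb1 : b ≠ 1 := fun h => hne (by rw [hb, h, mul_one])
  obtain ⟨s, hs, hsb⟩ := Nat.exists_prime_and_dvd hb1
  have hle : p ≤ s := hp s (mem_of_dvd_piPart hπ hs (hb ▸ hsb.mul_left a))
  have hb0 : b ≠ 0 := fun h => (piPart_pos hπ n).ne' (by rw [hb, h, mul_zero])
  have := Nat.le_of_dvd (Nat.pos_of_ne_zero hb0) hsb
  rw [hb, Nat.mul_comm p a]
  exact Nat.mul_le_mul_left a (hle.trans this)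

/-- Splitting a number at a set of primes. -/
theorem exists_split (σ : Finset ℕ) (n : ℕ) (hn : n ≠ 0) :
    ∃ a b : ℕ, n = a * b ∧ (∀ s : ℕ, s.Prime → s ∣ a → s ∈ σ) ∧
      ∀ s : ℕ, s.Prime → s ∣ b → s ∉ σ := by
  have hσ : ∀ r ∈ σ.filter Nat.Prime, r.Prime := fun r hr => (Finset.mem_filter.1 hr).2
  refine ⟨piPart (σ.filter Nat.Prime) n, n / piPart (σ.filter Nat.Prime) n,
    (Nat.mul_div_cancel' (piPart_dvd hσ hn)).symm,
    fun s hs h => (Finset.mem_filter.1 (mem_of_dvd_piPart hσ hs h)).1, fun s hs h hmem => ?_⟩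
  have hd := piPart_dvd hσ hn
  have hq : n / piPart (σ.filter Nat.Prime) n ≠ 0 :=
    (Nat.div_pos (Nat.le_of_dvd (Nat.pos_of_ne_zero hn) hd) (piPart_pos hσ n)).ne'
  have h := hs.factorization_pos_of_dvd hq h
  rw [Nat.factorization_div hd, Finsupp.tsub_apply, piPart_factorization hσ,
    if_pos (Finset.mem_filter.2 ⟨hmem, hs⟩), Nat.sub_self] at h
  exact Nat.lt_irrefl _ h

/-! ## π-elements -/

variable {G : Type u} [Group G]

theorem IsPiEl.mono {π σ : Finset ℕ} {x : G} (h : IsPiEl π x) (hsub : π ⊆ σ) : IsPiEl σ x :=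
  fun r hr hd => hsub (h r hr hd)

theorem isPiEl_coe {π : Finset ℕ} {H : Subgroup G} {x : H} :
    IsPiEl π x ↔ IsPiEl π (x : G) := by
  simp [IsPiEl, Subgroup.orderOf_coe]

theorem isPiEl_of_mem [Finite G] {π : Finset ℕ} {H : Subgroup G}
    (hH : ∀ s : ℕ, s.Prime → s ∣ Nat.card H → s ∈ π) {x : G} (hx : x ∈ H) : IsPiEl π x := by
  intro s hs hd
  refine hH s hs (hd.trans ?_)
  rw [← Subgroup.orderOf_mk x hx]
  exact orderOf_dvd_natCard (⟨x, hx⟩ : H)

/-- A π-element is a product of a commuting σ-element and σ'-element. -/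
theorem exists_decomp [Finite G] {π : Finset ℕ} (σ : Finset ℕ) {g : G} (hg : IsPiEl π g) :
    ∃ x y : G, x * y = g ∧ y * x = x * y ∧ IsPiEl σ x ∧ IsPiEl (π \ σ) y := by
  obtain ⟨a, b, hab, ha, hb⟩ := exists_split σ (orderOf g) (orderOf_pos g).ne'
  obtain ⟨u, v, huv⟩ : ∃ u v : ℤ, u * (a : ℤ) + v * (b : ℤ) = 1 :=
    Nat.isCoprime_iff_coprime.2 (Nat.coprime_of_dvd fun s hs h1 h2 => hb s hs h2 (ha s hs h1))
  refine ⟨g ^ (v * (b : ℤ)), g ^ (u * (a : ℤ)), ?_, (Commute.zpow_zpow (Commute.refl g) _ _).eq,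
    fun s hs hd => ha s hs (hd.trans ?_), fun s hs hd => ?_⟩
  · rw [← zpow_add, add_comm, huv, zpow_one]
  · refine orderOf_dvd_of_pow_eq_one ?_
    rw [← zpow_natCast, ← zpow_mul,
      show v * (b : ℤ) * (a : ℤ) = (orderOf g : ℤ) * v by rw [hab]; push_cast; ring,
      zpow_mul, zpow_natCast, pow_orderOf_eq_one, one_zpow]
  · have hd' : s ∣ b := hd.trans (orderOf_dvd_of_pow_eq_one (by
      rw [← zpow_natCast, ← zpow_mul,
        show u * (a : ℤ) * (b : ℤ) = (orderOf g : ℤ) * u by rw [hab]; push_cast; ring,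
        zpow_mul, zpow_natCast, pow_orderOf_eq_one, one_zpow]))
    exact Finset.mem_sdiff.2 ⟨hg s hs (hab ▸ hd'.mul_left a), hb s hs hd'⟩

/-- Classes of π-elements are covered by pairs (class of the σ-part, class in its centralizer). -/
theorem card_piClasses_le_sum [Finite G] {π σ : Finset ℕ} [Fintype (PiCls σ G)]
    (rep : PiCls σ G → G) (hrep : ∀ c, ConjClasses.mk (rep c) = c.1) :
    Nat.card (PiCls π G) ≤
      ∑ c : PiCls σ G, Nat.card (PiCls (π \ σ) ↥(Subgroup.centralizer ({rep c} : Set G))) := by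
  let T : Type _ := Σ c : PiCls σ G, PiCls (π \ σ) ↥(Subgroup.centralizer ({rep c} : Set G))
  have key : ∀ c : PiCls π G, ∃ t : T, ∃ y : ↥(Subgroup.centralizer ({rep t.1} : Set G)),
      ConjClasses.mk y = t.2.1 ∧ ConjClasses.mk (rep t.1 * (y : G)) = c.1 := by
    intro c
    obtain ⟨g, hg, rfl⟩ := piClass_surjective c
    obtain ⟨x, y, hxy, hcomm, hx, hy⟩ := exists_decomp σ hg
    obtain ⟨k, hk⟩ := isConj_iff.1 (ConjClasses.mk_eq_mk_iff_isConj.1
      (show ConjClasses.mk x = ConjClasses.mk (rep (piClass x hx)) from (hrep (piClass x hx)).symm))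
    have hy' : k * y * k⁻¹ ∈ Subgroup.centralizer ({rep (piClass x hx)} : Set G) := by
      rw [Subgroup.mem_centralizer_singleton_iff, ← hk]
      calc k * y * k⁻¹ * (k * x * k⁻¹) = k * (y * x) * k⁻¹ := by group
        _ = k * (x * y) * k⁻¹ := by rw [hcomm]
        _ = k * x * k⁻¹ * (k * y * k⁻¹) := by group
    refine ⟨⟨piClass x hx, piClass ⟨_, hy'⟩ (isPiEl_coe.2 (hy.conj k))⟩, ⟨_, hy'⟩, rfl,
      ConjClasses.mk_eq_mk_iff_isConj.2 (IsConj.symm (isConj_iff.2 ⟨k, ?_⟩))⟩
    change k * g * k⁻¹ = rep (piClass x hx) * (k * y * k⁻¹)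
    rw [← hk, ← hxy]; group
  choose φ hφ using key
  have hinj : Function.Injective φ := by
    intro c d hcd
    obtain ⟨y, hy, hyc⟩ := hφ c
    obtain ⟨z, hz, hzd⟩ := hφ d
    revert y z
    rw [hcd]
    intro y hy hyc z hz hzd
    apply Subtype.ext
    rw [← hyc, ← hzd]
    obtain ⟨k, hk⟩ := isConj_iff.1 (ConjClasses.mk_eq_mk_iff_isConj.1 (hy.trans hz.symm))
    refine ConjClasses.mk_eq_mk_iff_isConj.2 (isConj_iff.2 ⟨k, ?_⟩)
    have hk' := Subgroup.mem_centralizer_singleton_iff.1 k.2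
    rw [← hk]
    push_cast
    calc (k : G) * (rep (φ d).1 * y) * (k : G)⁻¹ = ((k : G) * rep (φ d).1) * (y * (k : G)⁻¹) := by group
      _ = rep (φ d).1 * ((k : G) * y * (k : G)⁻¹) := by rw [hk']; group
  refine (Nat.card_le_card_of_injective φ hinj).trans ?_
  rw [Nat.card_sigma]

theorem card_piClasses_le_piPart {π : Finset ℕ} (hπ : ∀ r ∈ π, r.Prime) (G : Type u) [Group G]
    [Finite G] : Nat.card (PiCls π G) ≤ piPart π (Nat.card G) :=
  card_piClasses_le π hπ G

theorem piPart_centralizer_le [Finite G] (π : Finset ℕ) (hπ : ∀ r ∈ π, r.Prime) (H : Subgroup G) :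
    piPart π (Nat.card H) ≤ piPart π (Nat.card G) :=
  prod_pow_factorization_le hπ H

/-- If `|G|_π < p k_π(G)` then the same holds for every smaller set of primes. -/
theorem lt_erase [Finite G] {π : Finset ℕ} (hπ : ∀ r ∈ π, r.Prime) {r : ℕ} (hr : r ∈ π) {p : ℕ}
    (h : piPart π (Nat.card G) < p * Nat.card (PiCls π G)) :
    piPart (π.erase r) (Nat.card G) < p * Nat.card (PiCls (π.erase r) G) ∧
      r ^ (Nat.card G).factorization r < p * Nat.card (PiCls {r} G) := by
  classical
  have hπ' : ∀ s ∈ π.erase r, s.Prime := fun s hs => hπ s (Finset.mem_of_mem_erase hs)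
  have h1 : Nat.card (PiCls π G) ≤
      Nat.card (PiCls (π.erase r) G) * r ^ (Nat.card G).factorization r := by
    have := Fintype.ofFinite (PiCls (π.erase r) G)
    choose rep hrep hrepc using fun c : PiCls (π.erase r) G => piClass_surjective c
    refine (card_piClasses_le_sum rep fun c => congrArg Subtype.val (hrepc c)).trans ?_
    rw [Nat.card_eq_fintype_card, ← Finset.card_univ, ← smul_eq_mul]
    refine Finset.sum_le_card_nsmul _ _ _ fun c _ => ?_
    rw [show π \ π.erase r = {r} from Finset.sdiff_erase_self hr]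
    refine (card_piClasses_le_piPart (by simp [hπ r hr]) _).trans ?_
    rw [← piPart_singleton]
    exact piPart_centralizer_le _ (by simp [hπ r hr]) _
  have h2 : Nat.card (PiCls π G) ≤
      Nat.card (PiCls {r} G) * piPart (π.erase r) (Nat.card G) :=
    card_piClasses_le_mul (hπ r hr) fun x =>
      (card_piClasses_le_piPart hπ' _).trans (piPart_centralizer_le _ hπ' _)
  rw [piPart_erase hr] at h
  exact ⟨Nat.lt_of_mul_lt_mul_left (a := r ^ (Nat.card G).factorization r)
      (lt_of_lt_of_le h ((Nat.mul_le_mul_left p h1).trans_eq (by ring))),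
    Nat.lt_of_mul_lt_mul_right (a := piPart (π.erase r) (Nat.card G))
      (lt_of_lt_of_le h ((Nat.mul_le_mul_left p h2).trans_eq (by ring)))⟩

/-! ## Nilpotent Hall subgroups -/

/-- A nilpotent subgroup of order the π-part of the group order. -/
def IsNilHall (π : Finset ℕ) (H : Subgroup G) : Prop :=
  Group.IsNilpotent H ∧ Nat.card H = piPart π (Nat.card G)

theorem IsNilHall.exists_conj [Finite G] {π : Finset ℕ} (hπ : ∀ r ∈ π, r.Prime) {H : Subgroup G}
    (hH : IsNilHall π H) {K : Subgroup G} (hK : ∀ s : ℕ, s.Prime → s ∣ Nat.card K → s ∈ π) :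
    ∃ g : G, ∀ x ∈ K, g * x * g⁻¹ ∈ H := by
  have hG : Nat.card G ≠ 0 := Nat.card_pos.ne'
  have hidx : H.index = Nat.card G / piPart π (Nat.card G) := by
    rw [← hH.2, ← H.card_mul_index, Nat.mul_div_cancel_left _ Nat.card_pos]
  obtain ⟨x, hx⟩ := Cfsg.Agent.S0581.result H K hH.1
    (by rw [hH.2, hidx]; exact coprime_piPart_div hπ hG)
    (fun s hs hd => by
      rw [hH.2]
      refine dvd_piPart hπ hs.ne_zero hG (hd.trans K.card_subgroup_dvd_card) fun t ht htd => ?_
      rw [(Nat.prime_dvd_prime_iff_eq ht hs).1 htd]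
      exact hK s hs hd)
  refine ⟨x⁻¹, fun y hy => ?_⟩
  have := hx hy
  rw [Subgroup.mem_pointwise_smul_iff_inv_smul_mem] at this
  simpa [MulAut.conj_symm_apply] using this

/-- Every π-element is conjugate into a nilpotent Hall subgroup. -/
theorem IsNilHall.exists_conj_mem [Finite G] {π : Finset ℕ} (hπ : ∀ r ∈ π, r.Prime)
    {H : Subgroup G} (hH : IsNilHall π H) {x : G} (hx : IsPiEl π x) :
    ∃ g : G, g * x * g⁻¹ ∈ H := by
  obtain ⟨g, hg⟩ := hH.exists_conj hπ (K := Subgroup.zpowers x)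
    (fun s hs hd => hx s hs (by rwa [Nat.card_zpowers] at hd))
  exact ⟨g, hg x (Subgroup.mem_zpowers x)⟩

theorem card_piClasses_le_of_conj_mem [Finite G] {π : Finset ℕ} (H : Subgroup G)
    (hconj : ∀ x : G, IsPiEl π x → ∃ g : G, g * x * g⁻¹ ∈ H) :
    Nat.card (PiCls π G) ≤ Nat.card (ConjClasses H) := by
  have : Finite (ConjClasses H) := Finite.of_surjective _ ConjClasses.mk_surjective
  choose rep hrep hrepc using fun c : PiCls π G => piClass_surjective c
  choose g hg using fun c => hconj _ (hrep c)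
  refine Nat.card_le_card_of_injective
    (fun c => ConjClasses.mk (⟨_, hg c⟩ : H)) fun c d hcd => ?_
  have h1 := H.subtype.map_isConj (ConjClasses.mk_eq_mk_iff_isConj.1 hcd)
  simp only [Subgroup.coe_subtype] at h1
  apply Subtype.ext
  rw [← hrepc c, ← hrepc d]
  exact ConjClasses.mk_eq_mk_iff_isConj.2 (((isConj_iff.2 ⟨g c, rfl⟩ : IsConj (rep c) _).trans h1).trans
    (isConj_iff.2 ⟨g d, rfl⟩ : IsConj (rep d) _).symm)

/-! ## The degree bound -/

/-- All irreducible nonlinear degrees are at least the least prime divisor. -/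
theorem sq_mul_card_conjClasses_le {H : Type u} [Group H] [Finite H] {p : ℕ}
    (hp : ∀ s : ℕ, s.Prime → s ∣ Nat.card H → p ≤ s) :
    p ^ 2 * Nat.card (ConjClasses H) + (commutator H).index ≤
      p ^ 2 * (commutator H).index + Nat.card H := by
  classical
  have := Fintype.ofFinite (Cfsg.IrrCharacter H)
  have hk : Nat.card (ConjClasses H) = ∑ _χ : Cfsg.IrrCharacter H, 1 := by
    rw [← Characters.Complete.card_irr_eq_card_conjClasses, Nat.card_eq_fintype_card]; simp
  have ha : (commutator H).index =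
      ∑ χ : Cfsg.IrrCharacter H, if (χ : H → ℂ) 1 = 1 then 1 else 0 := by
    rw [← Characters.Linear.card_linear, Nat.card_eq_fintype_card, Fintype.card_subtype,
      Finset.card_filter]
  have hn : Nat.card H = ∑ χ : Cfsg.IrrCharacter H, Cfsg.charDegree (χ : H → ℂ) ^ 2 := by
    convert (BlocksChars5.Basic.sum_degree_sq (G := H)).symm
  rw [hk, ha, hn, Finset.mul_sum, Finset.mul_sum, ← Finset.sum_add_distrib,
    ← Finset.sum_add_distrib]
  refine Finset.sum_le_sum fun χ _ => ?_
  split_ifs with h1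
  · have : Cfsg.charDegree (χ : H → ℂ) = 1 := by
      rw [BlocksChars5.Basic.apply_one] at h1
      exact_mod_cast h1
    rw [this]; norm_num
  · have hne : Cfsg.charDegree (χ : H → ℂ) ≠ 1 := fun h => h1 (by
      rw [BlocksChars5.Basic.apply_one, h, Nat.cast_one])
    obtain ⟨s, hs, hd⟩ := Nat.exists_prime_and_dvd hne
    have := (hp s hs (hd.trans (BlocksChars5.Basic.degree_dvd_card χ))).trans
      (Nat.le_of_dvd (BlocksChars5.Basic.degree_pos χ) hd)
    have := Nat.pow_le_pow_left this 2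
    omega

section Bounds

variable {H : Type u} [Group H] [Finite H] {p : ℕ}

theorem commutator_card_le_of_many (hp2 : 2 ≤ p)
    (hp : ∀ s : ℕ, s.Prime → s ∣ Nat.card H → p ≤ s)
    (h : Nat.card H < p * Nat.card (ConjClasses H)) : Nat.card (commutator H) ≤ p := by
  have h1 := sq_mul_card_conjClasses_le hp
  rw [← (commutator H).card_mul_index] at h h1
  have ha : 0 < (commutator H).index := Nat.pos_of_ne_zero Subgroup.index_ne_zero_of_finite
  set a := (commutator H).index
  set c := Nat.card (commutator H)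
  set k := Nat.card (ConjClasses H)
  by_contra hc
  have hc' : p + 1 ≤ c := by omega
  have h2 : p * (c * a) + p ≤ p ^ 2 * k := by nlinarith
  nlinarith [Nat.mul_le_mul_right a hc', Nat.mul_le_mul_right (a * c) hp2]

theorem commutator_card_eq_one_of_many (hp2 : 2 ≤ p)
    (hp : ∀ s : ℕ, s.Prime → s ∣ Nat.card H → p ≤ s)
    (h : Nat.card H * (p ^ 2 + p - 1) < p ^ 3 * Nat.card (ConjClasses H)) :
    Nat.card (commutator H) = 1 := by
  have h1 := sq_mul_card_conjClasses_le hp
  rw [← (commutator H).card_mul_index] at h h1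
  have ha : 0 < (commutator H).index := Nat.pos_of_ne_zero Subgroup.index_ne_zero_of_finite
  have hdvd : Nat.card (commutator H) ∣ Nat.card H := (commutator H).card_subgroup_dvd_card
  by_contra hne
  obtain ⟨s, hs, hsd⟩ := Nat.exists_prime_and_dvd hne
  have hc : p ≤ Nat.card (commutator H) :=
    (hp s hs (hsd.trans hdvd)).trans (Nat.le_of_dvd Nat.card_pos hsd)
  set a := (commutator H).index
  set c := Nat.card (commutator H)
  set k := Nat.card (ConjClasses H)
  have hp' : 1 ≤ p ^ 2 := Nat.one_le_pow _ _ (by omega)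
  zify [show 1 ≤ p ^ 2 + p by omega] at h h1
  have hcz : (p : ℤ) ≤ c := by exact_mod_cast hc
  have hpz : (2 : ℤ) ≤ p := by exact_mod_cast hp2
  have haz : (0 : ℤ) < a := by exact_mod_cast ha
  nlinarith [mul_le_mul_of_nonneg_left h1 (by linarith : (0 : ℤ) ≤ p),
    mul_nonneg (mul_nonneg (sub_nonneg.2 hcz) haz.le) (by nlinarith : (0 : ℤ) ≤ (p : ℤ) ^ 2 - 1)]

/-- A derived subgroup of order at most the least prime divisor is central. -/
theorem commutator_le_center (hp : ∀ s : ℕ, s.Prime → s ∣ Nat.card H → p ≤ s)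
    (h : Nat.card (commutator H) ≤ p) : commutator H ≤ Subgroup.center H := by
  intro x hx
  by_cases hx1 : x = 1
  · simp [hx1]
  have hidx : Nat.card {y : H // IsConj x y} < Nat.card (commutator H) := by
    let f : {y : H // IsConj x y} → commutator H := fun y => ⟨y.1, by
        obtain ⟨g, hg⟩ := isConj_iff.1 y.2
        rw [← hg]
        exact Subgroup.Normal.conj_mem inferInstance x hx g⟩
    have := Fintype.ofFinite {y : H // IsConj x y}
    have := Fintype.ofFinite (commutator H)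
    rw [Nat.card_eq_fintype_card, Nat.card_eq_fintype_card]
    refine Fintype.card_lt_of_injective_of_notMem f
      (fun a b hab => Subtype.ext (congrArg (fun t : commutator H => (t : H)) hab)) (b := 1) ?_
    rintro ⟨y, hy⟩
    have : y.1 = 1 := congrArg Subtype.val hy
    have h2 := y.2
    rw [this, isConj_one_left] at h2
    exact hx1 h2
  have hmul := Characters.Complete.card_conjugates_mul_centralizer x
  by_cases h1 : Nat.card {y : H // IsConj x y} = 1
  · rw [h1, one_mul, Subgroup.card_eq_iff_eq_top, Subgroup.centralizer_eq_top_iff_subset] at hmul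
    exact hmul (Set.mem_singleton x)
  · obtain ⟨s, hs, hsd⟩ := Nat.exists_prime_and_dvd h1
    have h2 := hp s hs (hsd.trans ⟨_, hmul.symm⟩)
    have : Nonempty {y : H // IsConj x y} := ⟨⟨x, IsConj.refl x⟩⟩
    have h3 := Nat.le_of_dvd Nat.card_pos hsd
    omega

theorem isNilpotent_of_commutator_le (hp : ∀ s : ℕ, s.Prime → s ∣ Nat.card H → p ≤ s)
    (h : Nat.card (commutator H) ≤ p) : Group.IsNilpotent H :=
  haveI : Group.IsNilpotent (H ⧸ commutator H) := CommGroup.isNilpotent (G := Abelianization H)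
  Subgroup.isNilpotent_of_ker_le_center (QuotientGroup.mk' (commutator H))
    (by rw [QuotientGroup.ker_mk']; exact commutator_le_center hp h)

end Bounds

/-- A subgroup of the right order containing a conjugate of each π-element is nilpotent. -/
theorem isNilHall_of_conj_mem [Finite G] {π : Finset ℕ} (hπ : ∀ r ∈ π, r.Prime) {p : ℕ}
    (hp2 : 2 ≤ p) (hp : ∀ r ∈ π, p ≤ r) {H : Subgroup G}
    (hcard : Nat.card H = piPart π (Nat.card G))
    (hconj : ∀ x : G, IsPiEl π x → ∃ g : G, g * x * g⁻¹ ∈ H)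
    (h : piPart π (Nat.card G) < p * Nat.card (PiCls π G)) : IsNilHall π H := by
  have hH : ∀ s : ℕ, s.Prime → s ∣ Nat.card H → s ∈ π := fun s hs hd =>
    mem_of_dvd_piPart hπ hs (hcard ▸ hd)
  have hp' : ∀ s : ℕ, s.Prime → s ∣ Nat.card H → p ≤ s := fun s hs hd => hp s (hH s hs hd)
  refine ⟨isNilpotent_of_commutator_le hp' (commutator_card_le_of_many hp2 hp' ?_), hcard⟩
  rw [hcard]
  exact h.trans_le (Nat.mul_le_mul_left p (card_piClasses_le_of_conj_mem H hconj))

end Cfsg.Agent.Lib.PiClasses98
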