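import Cfsg.Agent.Lib.PiClasses98.Basic
import Cfsg.Agent.Lib.Balance.Factorization

/-!
# Classes of π-elements: gluing a Sylow subgroup to a smaller nilpotent Hall subgroup
-/

set_option autoImplicit false

namespace Cfsg.Agent.Lib.PiClasses98

open Cfsg.Agent.Lib.PiClasses

universe u

variable {G : Type u} [Group G] [Finite G]

theorem card_sup_eq_piPart {π : Finset ℕ} (hπ : ∀ s ∈ π, s.Prime) {r : ℕ} (hr : r ∈ π)
    {R K : Subgroup G} (hR : Nat.card R = r ^ (Nat.card G).factorization r)
    (hK : Nat.card K = piPart (π.erase r) (Nat.card G))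
    (hn : R ≤ Subgroup.normalizer (K : Set G)) :
    Nat.card ↥(R ⊔ K) = piPart π (Nat.card G) := by
  have hcop : (Nat.card R).Coprime (Nat.card K) := by
    refine Nat.coprime_of_dvd fun s hs h1 h2 => ?_
    rw [hR] at h1
    rw [hK] at h2
    exact (Finset.mem_erase.1 (mem_of_dvd_piPart (fun t ht => hπ t (Finset.mem_of_mem_erase ht))
      hs h2)).1 ((Nat.prime_dvd_prime_iff_eq hs (hπ r hr)).1 (hs.dvd_of_dvd_pow h1))
  rw [Coprime.card_sup_of_disjoint hn (Subgroup.disjoint_of_coprime_natCard hcop), hR, hK,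
    ← piPart_erase hr]

/-- Elements of order prime to the index of a normal subgroup lie in it. -/
theorem mem_of_coprime_index {N : Subgroup G} [N.Normal] {x : G}
    (h : (orderOf x).Coprime N.index) : x ∈ N := by
  rw [← QuotientGroup.eq_one_iff, ← orderOf_eq_one_iff]
  refine Nat.eq_one_of_dvd_coprimes h ?_ (by rw [Subgroup.index]; exact orderOf_dvd_natCard _)
  exact orderOf_map_dvd (QuotientGroup.mk' N) x

/-- A nilpotent Hall subgroup of `G` and a Sylow subgroup centralising it give a bigger one. -/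
theorem isNilHall_sup_of_commute {π : Finset ℕ} (hπ : ∀ s ∈ π, s.Prime) {q : ℕ} (hq : q ∈ π)
    {Q K : Subgroup G} (hQ : Nat.card Q = q ^ (Nat.card G).factorization q)
    (hK : IsNilHall (π.erase q) K) (hQK : Q ≤ Subgroup.centralizer (K : Set G)) :
    IsNilHall π (Q ⊔ K) := by
  haveI := Fact.mk (hπ q hq)
  haveI : Group.IsNilpotent Q := (IsPGroup.of_card hQ).isNilpotent
  haveI := hK.1
  have hc : ∀ (a : Q) (b : K), Commute (a : G) (b : G) := fun a b =>
    (Subgroup.mem_centralizer_iff.1 (hQK a.2) b b.2).symm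
  have hc' : ∀ (a : Q) (b : K), Commute (Q.subtype a) (K.subtype b) := hc
  let f : Q × K →* G := MonoidHom.noncommCoprod Q.subtype K.subtype hc'
  have hf : f.range = Q ⊔ K := by
    simp only [f]
    rw [MonoidHom.noncommCoprod_range, Subgroup.range_subtype, Subgroup.range_subtype]
  refine ⟨?_, card_sup_eq_piPart hπ hq hQ hK.2
    (hQK.trans (Subgroup.centralizer_le_normalizer _))⟩
  rw [← hf]
  exact Group.nilpotent_of_surjective f.rangeRestrict f.rangeRestrict_surjective

/-- If some prime of π has a normal complement, the nilpotent Hall subgroup extends. -/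
theorem exists_nilHall_of_complement {π : Finset ℕ} (hπ : ∀ s ∈ π, s.Prime) {p : ℕ} (hp2 : 2 ≤ p)
    (hp : ∀ s ∈ π, p ≤ s) {r : ℕ} (hr : r ∈ π)
    (hlt : piPart π (Nat.card G) < p * Nat.card (PiCls π G))
    {K₀ : Subgroup G} (hK₀ : IsNilHall (π.erase r) K₀)
    {R₀ N : Subgroup G} [N.Normal] (hR₀ : Nat.card R₀ = r ^ (Nat.card G).factorization r)
    (hNR : N.IsComplement' R₀) : ∃ H : Subgroup G, IsNilHall π H := by
  classical
  haveI := Fact.mk (hπ r hr)
  set π' := π.erase r
  have hπ' : ∀ s ∈ π', s.Prime := fun s hs => hπ s (Finset.mem_of_mem_erase hs)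
  have hidx : N.index = r ^ (Nat.card G).factorization r := by rw [hNR.symm.index_eq_card, hR₀]
  have hmemN : ∀ x : G, IsPiEl π' x → x ∈ N := fun x hx => mem_of_coprime_index (by
    rw [hidx]
    refine Nat.Coprime.pow_right _ (Nat.Coprime.symm ((hπ r hr).coprime_iff_not_dvd.2 fun hd => ?_))
    exact (Finset.mem_erase.1 (hx r (hπ r hr) hd)).1 rfl)
  have hK₀π : ∀ s : ℕ, s.Prime → s ∣ Nat.card K₀ → s ∈ π' := fun s hs hd =>
    mem_of_dvd_piPart hπ' hs (hK₀.2 ▸ hd)
  have hK₀N : K₀ ≤ N := fun x hx => hmemN x (isPiEl_of_mem hK₀π hx)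
  -- Frattini: some Sylow `r`-subgroup normalises `K₀`
  have hpartN : piPart π' (Nat.card N) = piPart π' (Nat.card G) := by
    refine Nat.dvd_antisymm (piPart_dvd_piPart Nat.card_pos.ne' Nat.card_pos.ne'
      N.card_subgroup_dvd_card) ?_
    rw [← hK₀.2]
    exact dvd_piPart hπ' Nat.card_pos.ne' Nat.card_pos.ne' (Subgroup.card_dvd_of_le hK₀N) hK₀π
  have hcardK₀N : Nat.card (K₀.subgroupOf N) = Nat.card K₀ :=
    Nat.card_congr (Subgroup.subgroupOfEquivOfLe hK₀N).toEquiv
  have hK₀N' : IsNilHall π' (K₀.subgroupOf N) :=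
    ⟨(Group.isNilpotent_congr (Subgroup.subgroupOfEquivOfLe hK₀N)).2 hK₀.1,
      by rw [hcardK₀N, hK₀.2, hpartN]⟩
  set M := Subgroup.normalizer (K₀ : Set G)
  have hMN : M ⊔ N = ⊤ := by
    refine eq_top_iff.2 fun g _ => ?_
    have hconjN : ∀ x : N, g * x * g⁻¹ ∈ N := fun x => ‹N.Normal›.conj_mem x x.2 g
    let φ : N →* N := (((MulAut.conj g).toMonoidHom.comp N.subtype)).codRestrict N hconjN
    have hφ : ∀ x : N, (φ x : G) = g * x * g⁻¹ := fun _ => rfl
    have hφi : Function.Injective φ := fun a b hab => Subtype.ext (by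
      have := congrArg (fun t : N => (t : G)) hab
      simpa [hφ] using this)
    obtain ⟨n, hn⟩ := hK₀N'.exists_conj hπ' (K := (K₀.subgroupOf N).map φ) (fun s hs hd => hK₀π s hs
      (by rwa [Subgroup.card_map_of_injective hφi, hcardK₀N] at hd))
    have hng : (n : G) * g ∈ M := by
      rw [Subgroup.mem_normalizer_iff]
      have hinto : ∀ x ∈ K₀, (n : G) * g * x * ((n : G) * g)⁻¹ ∈ K₀ := fun x hx => by
        have h1 : ((n * φ ⟨x, hK₀N hx⟩ * n⁻¹ : N) : G) ∈ K₀ := hn _ (Subgroup.mem_map_of_mem φ hx)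
        simpa [hφ, mul_assoc] using h1
      intro x
      refine ⟨hinto x, fun hx => ?_⟩
      let c : K₀ → K₀ := fun y => ⟨_, hinto y y.2⟩
      have hc : Function.Injective c := fun a b hab => Subtype.ext (by
        have := congrArg (fun t : K₀ => (t : G)) hab
        simpa [c] using this)
      obtain ⟨y, hy⟩ := Finite.surjective_of_injective hc ⟨_, hx⟩
      have := congrArg (fun t : K₀ => (t : G)) hy
      simp only [c] at this
      have h2 : (y : G) = x := mul_left_cancel (mul_right_cancel this)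
      rw [← h2]; exact y.2
    have h3 : ((n : G)⁻¹ * ((n : G) * g)) ∈ N ⊔ M :=
      mul_mem (Subgroup.mem_sup_left (inv_mem n.2)) (Subgroup.mem_sup_right hng)
    rw [sup_comm]
    simpa using h3
  have hMidx : ¬ r ∣ M.index := by
    intro hd
    have hN : N.relIndex M = N.index := by
      rw [← Subgroup.relIndex_sup_right M N, hMN, Subgroup.relIndex_top_right]
    have h1 : N.index * M.index = M.relIndex N * N.index := by
      have e1 := Subgroup.relIndex_mul_index (inf_le_left : M ⊓ N ≤ M)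
      have e2 := Subgroup.relIndex_mul_index (inf_le_right : M ⊓ N ≤ N)
      rw [Subgroup.inf_relIndex_left, hN] at e1
      rw [Subgroup.inf_relIndex_right] at e2
      rw [e1, e2]
    rw [mul_comm N.index] at h1
    have h2 : M.index = M.relIndex N :=
      Nat.eq_of_mul_eq_mul_right (Nat.pos_of_ne_zero Subgroup.index_ne_zero_of_finite) h1
    have h3 : r ∣ Nat.card N := hd.trans (h2 ▸ Subgroup.relIndex_dvd_card M N)
    have h4 : Nat.card N = Nat.card G / r ^ (Nat.card G).factorization r := by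
      rw [← hidx, ← N.card_mul_index, Nat.mul_div_cancel _ (Nat.pos_of_ne_zero
        Subgroup.index_ne_zero_of_finite)]
    exact Nat.not_dvd_ordCompl (hπ r hr) Nat.card_pos.ne' (h4 ▸ h3)
  obtain ⟨S⟩ := (inferInstance : Nonempty (Sylow r M))
  set R := (S : Subgroup M).map M.subtype with hRdef
  have hR : Nat.card R = r ^ (Nat.card G).factorization r := by
    rw [Coprime.card_sylow_map S, ← M.card_mul_index, Nat.factorization_mul Nat.card_pos.ne'
      Subgroup.index_ne_zero_of_finite, Finsupp.add_apply,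
      Nat.factorization_eq_zero_of_not_dvd hMidx, add_zero]
  have hRM : R ≤ M := Subgroup.map_subtype_le _
  set H := R ⊔ K₀
  have hH : Nat.card H = piPart π (Nat.card G) := card_sup_eq_piPart hπ hr hR hK₀.2 hRM
  refine ⟨H, isNilHall_of_conj_mem hπ hp2 hp hH (fun g hg => ?_) hlt⟩
  -- split `g` and move the `r`-part into `R`
  obtain ⟨u, v, huv, hcomm, hu, hv⟩ := exists_decomp {r} hg
  rw [Finset.sdiff_singleton_eq_erase] at hv
  have hRsyl : Nat.card R = piPart {r} (Nat.card G) := by rw [piPart_singleton, hR]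
  obtain ⟨a, ha⟩ := IsNilHall.exists_conj_mem (by simp [hπ r hr])
    (H := R) ⟨(IsPGroup.of_card hR).isNilpotent, hRsyl⟩ hu
  set u' := a * u * a⁻¹
  set v' := a * v * a⁻¹
  have hv' : IsPiEl π' v' := hv.conj a
  have hvu : v' * u' = u' * v' := by
    calc a * v * a⁻¹ * (a * u * a⁻¹) = a * (v * u) * a⁻¹ := by group
      _ = a * (u * v) * a⁻¹ := by rw [hcomm]
      _ = a * u * a⁻¹ * (a * v * a⁻¹) := by group
  set A := Subgroup.zpowers u'
  set C := N ⊓ Subgroup.centralizer ({u'} : Set G)
  set L := K₀ ⊓ Subgroup.centralizer ({u'} : Set G)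
  have hLC : L ≤ C := inf_le_inf_right _ hK₀N
  have hAM : A ≤ M := Subgroup.zpowers_le.2 (hRM ha)
  have hAN : A ≤ Subgroup.normalizer (N : Set G) := by
    rw [Subgroup.normalizer_eq_top]; exact le_top
  haveI hAc : IsMulCommutative A := inferInstance
  have hAcard : ∃ j, Nat.card A = r ^ j := by
    rw [Nat.card_zpowers]; exact (isPiEl_singleton_iff (hπ r hr)).1 (hu.conj a)
  have hcopN : ∀ X : Subgroup G, X ≤ N → (Nat.card A).Coprime (Nat.card X) := fun X hX => by
    obtain ⟨j, hj⟩ := hAcard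
    rw [hj]
    refine Nat.Coprime.pow_left _ ((hπ r hr).coprime_iff_not_dvd.2 fun hd => ?_)
    have h4 : Nat.card N = Nat.card G / r ^ (Nat.card G).factorization r := by
      rw [← hidx, ← N.card_mul_index, Nat.mul_div_cancel _ (Nat.pos_of_ne_zero
        Subgroup.index_ne_zero_of_finite)]
    exact Nat.not_dvd_ordCompl (hπ r hr) Nat.card_pos.ne'
      (h4 ▸ hd.trans (Subgroup.card_dvd_of_le hX))
  have hLcard : Nat.card L = piPart π' (Nat.card C) := by
    refine Nat.dvd_antisymm (dvd_piPart hπ' Nat.card_pos.ne' Nat.card_pos.ne'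
      (Subgroup.card_dvd_of_le hLC) fun s hs hd =>
        hK₀π s hs (hd.trans (Subgroup.card_dvd_of_le inf_le_left))) ?_
    rw [← Nat.factorization_le_iff_dvd (piPart_pos hπ' _).ne' Nat.card_pos.ne']
    intro s
    rw [piPart_factorization hπ']
    split
    swap
    · exact Nat.zero_le _
    rename_i hs
    rw [← (hπ' s hs).pow_dvd_iff_le_factorization Nat.card_pos.ne']
    haveI := Fact.mk (hπ' s hs)
    obtain ⟨T, hT⟩ := Coprime.exists_invariant_sylow hAM (hcopN K₀ hK₀N)
      (Or.inl (Coprime.isSolvable_of_isMulCommutative A)) s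
    have hTcard : Nat.card ((T : Subgroup K₀).map K₀.subtype) =
        s ^ (Nat.card N).factorization s := by
      have e1 := piPart_factorization hπ' (Nat.card G) s
      have e2 := piPart_factorization hπ' (Nat.card N) s
      rw [hpartN, e1, if_pos hs, if_pos hs] at e2
      rw [Coprime.card_sylow_map T, hK₀.2, e1, if_pos hs, e2]
    obtain ⟨P, hP⟩ := Coprime.exists_sylow_of_card
      ((Subgroup.map_subtype_le _).trans hK₀N) hTcard
    rw [← hP] at hT
    have h5 := Balance.card_inf_centralizer_sylow hAN (hcopN N le_rfl) P hT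
      (Subgroup.mem_zpowers u')
    rw [hP] at h5
    rw [← h5]
    exact Subgroup.card_dvd_of_le (inf_le_inf_right _ (Subgroup.map_subtype_le _))
  have hLnil : Group.IsNilpotent L := by
    haveI := hK₀.1
    exact (Group.isNilpotent_congr (Subgroup.subgroupOfEquivOfLe (inf_le_left : L ≤ K₀))).1
      inferInstance
  have hLH : IsNilHall π' (L.subgroupOf C) :=
    ⟨(Group.isNilpotent_congr (Subgroup.subgroupOfEquivOfLe hLC)).2 hLnil,
    by rw [Nat.card_congr (Subgroup.subgroupOfEquivOfLe hLC).toEquiv, hLcard]⟩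
  have hvC : v' ∈ C := ⟨hmemN v' hv', Subgroup.mem_centralizer_singleton_iff.2 hvu⟩
  obtain ⟨c, hc⟩ := hLH.exists_conj_mem hπ' (x := (⟨v', hvC⟩ : C)) (isPiEl_coe.2 hv')
  have hcv : (c : G) * v' * (c : G)⁻¹ ∈ K₀ := hc.1
  have hcu : (c : G) * u' * (c : G)⁻¹ = u' := by
    rw [Subgroup.mem_centralizer_singleton_iff.1 c.2.2]; group
  refine ⟨c * a, ?_⟩
  have : (c : G) * a * g * ((c : G) * a)⁻¹ = u' * ((c : G) * v' * (c : G)⁻¹) := by
    rw [← huv]
    calc (c : G) * a * (u * v) * ((c : G) * a)⁻¹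
        = ((c : G) * u' * (c : G)⁻¹) * ((c : G) * v' * (c : G)⁻¹) := by simp only [u', v']; group
      _ = _ := by rw [hcu]
  rw [this]
  exact mul_mem (Subgroup.mem_sup_left ha) (Subgroup.mem_sup_right hcv)

/-- An abelian nilpotent Hall subgroup with self-centralising normaliser yields a complement. -/
theorem exists_complement_of_normalizer_le {σ : Finset ℕ} (hσ : ∀ s ∈ σ, s.Prime) {r : ℕ}
    (hr : r ∈ σ) {K : Subgroup G} (hK : IsNilHall σ K) (hab : IsMulCommutative K)
    (hN : Subgroup.normalizer (K : Set G) ≤ Subgroup.centralizer (K : Set G)) :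
    ∃ R N : Subgroup G, N.Normal ∧ Nat.card R = r ^ (Nat.card G).factorization r ∧
      N.IsComplement' R := by
  classical
  haveI := Fact.mk (hσ r hr)
  obtain ⟨S⟩ := (inferInstance : Nonempty (Sylow r K))
  have hScard : Nat.card ((S : Subgroup K).map K.subtype) =
      r ^ (Nat.card G).factorization r := by
    rw [Coprime.card_sylow_map S, hK.2, piPart_factorization hσ, if_pos hr]
  let P : Sylow r G := Sylow.ofCard _ hScard
  have hPK : (P : Subgroup G) ≤ K := by
    rw [Sylow.coe_ofCard]; exact Subgroup.map_subtype_le _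
  refine ⟨P, (MonoidHom.transferSylow P ?_).ker, inferInstance, P.card_eq_multiplicity,
    MonoidHom.ker_transferSylow_isComplement' P ?_⟩
  all_goals
    intro g hg
    set D := Subgroup.centralizer ((P : Subgroup G) : Set G)
    have hKD : K ≤ D := fun x hx => Subgroup.mem_centralizer_iff.2 fun y hy => by
      have := hab.1.1 (⟨y, hPK hy⟩ : K) ⟨x, hx⟩
      exact congrArg Subtype.val this
    have hgD : ∀ x ∈ K, g * x * g⁻¹ ∈ D := fun x hx => Subgroup.mem_centralizer_iff.2 fun y hy => by
      have hy' : g⁻¹ * y * g ∈ (P : Subgroup G) := (Subgroup.mem_normalizer_iff''.1 hg y).1 hy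
      have h := congrArg Subtype.val (hab.1.1 (⟨_, hPK hy'⟩ : K) ⟨x, hx⟩)
      simp only [Subgroup.coe_mul] at h
      calc y * (g * x * g⁻¹) = g * (g⁻¹ * y * g * x) * g⁻¹ := by group
        _ = g * (x * (g⁻¹ * y * g)) * g⁻¹ := by rw [h]
        _ = g * x * g⁻¹ * y := by group
    have hKD' : IsNilHall σ (K.subgroupOf D) := by
      refine ⟨(Group.isNilpotent_congr (Subgroup.subgroupOfEquivOfLe hKD)).2 hK.1, ?_⟩
      rw [Nat.card_congr (Subgroup.subgroupOfEquivOfLe hKD).toEquiv]
      refine Nat.dvd_antisymm (dvd_piPart hσ Nat.card_pos.ne' Nat.card_pos.ne'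
        (Subgroup.card_dvd_of_le hKD) fun s hs hd => mem_of_dvd_piPart hσ hs (hK.2 ▸ hd)) ?_
      rw [hK.2]
      exact piPart_dvd_piPart Nat.card_pos.ne' Nat.card_pos.ne' D.card_subgroup_dvd_card
    let ψ : K →* D := ((MulAut.conj g).toMonoidHom.comp K.subtype).codRestrict D fun x => hgD x x.2
    have hψ : ∀ x : K, (ψ x : G) = g * x * g⁻¹ := fun _ => rfl
    obtain ⟨d, hd⟩ := hKD'.exists_conj hσ (K := ψ.range) fun s hs hsd =>
      mem_of_dvd_piPart hσ hs (hK.2 ▸ hsd.trans (Subgroup.card_range_dvd ψ))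
    have hdg : (d : G) * g ∈ Subgroup.normalizer (K : Set G) := by
      rw [Subgroup.mem_normalizer_iff]
      have hinto : ∀ x ∈ K, (d : G) * g * x * ((d : G) * g)⁻¹ ∈ K := fun x hx => by
        have h1 : ((d * ψ ⟨x, hx⟩ * d⁻¹ : D) : G) ∈ K := hd _ ⟨⟨x, hx⟩, rfl⟩
        simpa [hψ, mul_assoc] using h1
      intro x
      refine ⟨hinto x, fun hx => ?_⟩
      let c : K → K := fun y => ⟨_, hinto y y.2⟩
      have hc : Function.Injective c := fun a b hab => Subtype.ext (by
        have := congrArg (fun t : K => (t : G)) hab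
        simpa [c] using this)
      obtain ⟨y, hy⟩ := Finite.surjective_of_injective hc ⟨_, hx⟩
      have := congrArg (fun t : K => (t : G)) hy
      simp only [c] at this
      have h2 : (y : G) = x := mul_left_cancel (mul_right_cancel this)
      rw [← h2]; exact y.2
    have h6 : (d : G) * g ∈ D := Subgroup.centralizer_le hPK (hN hdg)
    simpa [D] using mul_mem (inv_mem d.2) h6

end Cfsg.Agent.Lib.PiClasses98
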