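import Cfsg.Agent.Lib.PiClasses98.Weights

/-!
# Many classes of π-elements force a nilpotent Hall π-subgroup
-/

set_option autoImplicit false

namespace Cfsg.Agent.Lib.PiClasses98

open Cfsg.Agent.Lib.PiClasses

universe u

variable {G : Type u} [Group G] [Finite G]

/-- For a prime `q > p`, many classes of `q`-elements force an abelian Sylow `q`-subgroup. -/
theorem sylow_abelian_of_lt {p q : ℕ} (hq : q.Prime) (hpq : p + 1 ≤ q) {Q : Subgroup G}
    (hQ : Nat.card Q = q ^ (Nat.card G).factorization q)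
    (h : Nat.card Q < p * Nat.card (PiCls {q} G)) : IsMulCommutative Q := by
  haveI := Fact.mk hq
  have hq' : ∀ s : ℕ, s.Prime → s ∣ Nat.card Q → q ≤ s := fun s hs hd => by
    rw [hQ] at hd
    exact ((Nat.prime_dvd_prime_iff_eq hs hq).1 (hs.dvd_of_dvd_pow hd)).ge
  have hk : Nat.card (PiCls {q} G) ≤ Nat.card (ConjClasses Q) :=
    card_piClasses_le_of_conj_mem Q fun x hx => IsNilHall.exists_conj_mem (by simp [hq])
      ⟨(IsPGroup.of_card hQ).isNilpotent, by rw [piPart_singleton, hQ]⟩ hx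
  refine (commutator_eq_bot_iff _).1 (Subgroup.card_eq_one.1 ?_)
  by_contra hne
  obtain ⟨s, hs, hsd⟩ := Nat.exists_prime_and_dvd hne
  have hc : q ≤ Nat.card (commutator Q) :=
    (hq' s hs (hsd.trans (commutator Q).card_subgroup_dvd_card)).trans
      (Nat.le_of_dvd Nat.card_pos hsd)
  have h1 := sq_mul_card_conjClasses_le hq'
  rw [← (commutator Q).card_mul_index] at h h1
  set a := (commutator Q).index
  set c := Nat.card (commutator Q)
  have h' : c * a < p * Nat.card (ConjClasses Q) := h.trans_le (Nat.mul_le_mul_left p hk)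
  set k := Nat.card (ConjClasses Q)
  have hkq : q ^ 2 * k ≤ (q + 1) * (c * a) := by
    have := Nat.mul_le_mul_left q (Nat.mul_le_mul_right a hc)
    nlinarith
  have h2 : q ^ 2 * (c * a) < q ^ 2 * (c * a) := calc
    q ^ 2 * (c * a) < q ^ 2 * (p * k) := Nat.mul_lt_mul_of_pos_left h' (pow_pos hq.pos 2)
    _ = p * (q ^ 2 * k) := by ring
    _ ≤ p * ((q + 1) * (c * a)) := Nat.mul_le_mul_left p hkq
    _ = (p * (q + 1)) * (c * a) := by ring
    _ ≤ q ^ 2 * (c * a) := Nat.mul_le_mul_right _ (by nlinarith [Nat.mul_le_mul_right q hpq])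
  exact Nat.lt_irrefl _ h2

/-- **Main theorem.** If `|G|_π < p k_π(G)`, with all primes of π at least `p`, then `G` has a
nilpotent Hall π-subgroup. -/
theorem forces {p : ℕ} (hp2 : 2 ≤ p) : ∀ π : Finset ℕ, (∀ s ∈ π, s.Prime) → (∀ s ∈ π, p ≤ s) →
    Forces.{u} p π := by
  intro π
  induction π using Finset.strongInduction with
  | _ π ih =>
    intro hπ hp G _ _ hlt
    classical
    rcases π.eq_empty_or_nonempty with rfl | hne
    · exact ⟨⊥, Group.isNilpotent_of_subsingleton, by simp [piPart]⟩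
    by_cases hsing : ∃ r, π = {r}
    · obtain ⟨r, rfl⟩ := hsing
      haveI := Fact.mk (hπ r (Finset.mem_singleton_self r))
      obtain ⟨R⟩ := (inferInstance : Nonempty (Sylow r G))
      exact ⟨R, R.2.isNilpotent, by rw [piPart_singleton]; exact R.card_eq_multiplicity⟩
    set q := π.max' hne with hqdef
    have hq : q ∈ π := π.max'_mem hne
    obtain ⟨r₀, hr₀⟩ : (π.erase q).Nonempty := by
      by_contra h
      rw [Finset.not_nonempty_iff_eq_empty, Finset.erase_eq_empty_iff] at h
      rcases h with h | h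
      · exact hne.ne_empty h
      · exact hsing ⟨q, h⟩
    have hpq : p + 1 ≤ q := by
      obtain ⟨hne', hmem⟩ := Finset.mem_erase.1 hr₀
      have := hp r₀ hmem
      have := π.le_max' r₀ hmem
      omega
    haveI := Fact.mk (hπ q hq)
    have step : ∀ r ∈ π, Forces.{u} p (π.erase r) := fun r hr =>
      ih _ (Finset.erase_ssubset hr) (fun s hs => hπ s (Finset.mem_of_mem_erase hs))
        fun s hs => hp s (Finset.mem_of_mem_erase hs)
    have hπ' : ∀ s ∈ π.erase q, s.Prime := fun s hs => hπ s (Finset.mem_of_mem_erase hs)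
    obtain ⟨hlt', hltq⟩ := lt_erase hπ hq hlt
    obtain ⟨K, hK⟩ := step q hq G hlt'
    -- a Sylow subgroup containing one of `C(K)`
    obtain ⟨T⟩ := (inferInstance : Nonempty (Sylow q (Subgroup.centralizer (K : Set G))))
    obtain ⟨P, hTP⟩ := (T.2.map (Subgroup.centralizer (K : Set G)).subtype).exists_le_sylow
    set Q := (P : Subgroup G)
    have hQ : Nat.card Q = q ^ (Nat.card G).factorization q := P.card_eq_multiplicity
    have hQ₀ : Nat.card ↥(Q ⊓ Subgroup.centralizer (K : Set G)) =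
        q ^ (Nat.card (Subgroup.centralizer (K : Set G))).factorization q := by
      have heq : Q ⊓ Subgroup.centralizer (K : Set G) =
          (T : Subgroup (Subgroup.centralizer (K : Set G))).map
            (Subgroup.centralizer (K : Set G)).subtype := by
        have h1 : IsPGroup q (Q.subgroupOf (Subgroup.centralizer (K : Set G))) :=
          P.2.comap_of_injective _ Subtype.val_injective
        have h2 : (T : Subgroup (Subgroup.centralizer (K : Set G))) ≤
            Q.subgroupOf (Subgroup.centralizer (K : Set G)) := fun x hx =>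
          hTP ⟨x, hx, rfl⟩
        rw [← T.is_maximal' h1 h2, Subgroup.subgroupOf_map_subtype]
      rw [heq, Coprime.card_sylow_map T]
    have hQab : IsMulCommutative Q := sylow_abelian_of_lt (hπ q hq) hpq hQ (hQ ▸ hltq)
    by_cases hQK : Q ≤ Subgroup.centralizer (K : Set G)
    · exact ⟨Q ⊔ K, isNilHall_sup_of_commute hπ hq hQ hK hQK⟩
    by_cases hNQ : Subgroup.normalizer (Q : Set G) ≤ Subgroup.centralizer (Q : Set G)
    · exact exists_nilHall_of_complement hπ hp2 hp hq hlt hK
        (R₀ := Q) (N := (MonoidHom.transferSylow P hNQ).ker) hQ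
        (MonoidHom.ker_transferSylow_isComplement' P hNQ)
    by_cases hKN : IsMulCommutative K ∧
        Subgroup.normalizer (K : Set G) ≤ Subgroup.centralizer (K : Set G)
    · obtain ⟨R, N, hN, hR, hNR⟩ := exists_complement_of_normalizer_le hπ' hr₀ hK hKN.1 hKN.2
      have hr : r₀ ∈ π := Finset.mem_of_mem_erase hr₀
      obtain ⟨K₂, hK₂⟩ := step r₀ hr G (lt_erase hπ hr hlt).1
      exact exists_nilHall_of_complement hπ hp2 hp hr hlt hK₂ hR hNR
    exfalso
    obtain ⟨n, hn, hnQ⟩ := SetLike.not_le_iff_exists.1 hNQ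
    have := mul_card_piClasses_le_of_critical hπ hp2 hp hq hpq (step q hq) hK hQ hQ₀ hQK hn hnQ
      fun hab h => hKN ⟨hab, h⟩
    omega

/-- The classes counted in the statements are the classes of π-elements for the primes dividing
the π-part. -/
theorem card_statementClasses {π : Set ℕ} {m : ℕ} (hm : m ∣ Nat.card G)
    (hmπ : ∀ s : ℕ, s.Prime → s ∣ m → s ∈ π) (hm' : ∀ s ∈ π, ¬ s ∣ Nat.card G / m) :
    Nat.card {C : ConjClasses G // ∀ s : ℕ, s.Prime →
        (∃ g : G, ConjClasses.mk g = C ∧ s ∣ orderOf g) → s ∈ π} =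
      Nat.card (PiCls m.primeFactors G) := by
  have hm0 : m ≠ 0 := ne_zero_of_dvd_ne_zero Nat.card_pos.ne' hm
  refine Nat.card_congr (Equiv.subtypeEquivRight fun C => ⟨fun h x hx s hs hd => ?_,
    fun h s hs ⟨g, hg, hd⟩ => ?_⟩)
  · have hsπ := h s hs ⟨x, ConjClasses.mem_carrier_iff_mk_eq.1 hx, hd⟩
    have h1 : s ∣ m * (Nat.card G / m) := by
      rw [Nat.mul_div_cancel' hm]; exact hd.trans (orderOf_dvd_natCard x)
    exact Nat.mem_primeFactors.2 ⟨hs, (hs.dvd_mul.1 h1).resolve_right (hm' s hsπ), hm0⟩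
  · exact hmπ s hs (Nat.dvd_of_mem_primeFactors
      (h g (ConjClasses.mem_carrier_iff_mk_eq.2 hg) s hs hd))

theorem piPart_primeFactors {π : Set ℕ} {m : ℕ} (hm : m ∣ Nat.card G)
    (hmπ : ∀ s : ℕ, s.Prime → s ∣ m → s ∈ π) (hm' : ∀ s ∈ π, ¬ s ∣ Nat.card G / m) :
    piPart m.primeFactors (Nat.card G) = m :=
  piPart_eq (fun _ => Nat.prime_of_mem_primeFactors) Nat.card_pos.ne' hm
    (fun _ hs hd => Nat.mem_primeFactors.2 ⟨hs, hd, ne_zero_of_dvd_ne_zero Nat.card_pos.ne' hm⟩)
    fun r hr => hm' r (hmπ r (Nat.prime_of_mem_primeFactors hr) (Nat.dvd_of_mem_primeFactors hr))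

/-- The bounds on the derived subgroup. -/
theorem exists_hall {m : ℕ} (hm : piPart m.primeFactors (Nat.card G) = m) {p : ℕ} (hp2 : 2 ≤ p)
    (hp : ∀ s ∈ m.primeFactors, p ≤ s)
    (hlt : m < p * Nat.card (PiCls m.primeFactors G)) :
    ∃ H : Subgroup G, Nat.card H = m ∧ Group.IsNilpotent H ∧
      Nat.card (commutator H) ≤ p ∧
      (m * (p ^ 2 + p - 1) < p ^ 3 * Nat.card (PiCls m.primeFactors G) → IsMulCommutative H) := by
  have hπ : ∀ s ∈ m.primeFactors, s.Prime := fun _ => Nat.prime_of_mem_primeFactors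
  obtain ⟨H, hH⟩ := forces hp2 _ hπ hp G (hm.symm ▸ hlt)
  have hcard : Nat.card H = m := hH.2.trans hm
  have hp' : ∀ s : ℕ, s.Prime → s ∣ Nat.card H → p ≤ s := fun s hs hd =>
    hp s (mem_of_dvd_piPart hπ hs (hH.2 ▸ hd))
  have hk := card_piClasses_le_of_conj_mem H fun x hx => hH.exists_conj_mem hπ hx
  refine ⟨H, hcard, hH.1, commutator_card_le_of_many hp2 hp'
    (hcard.symm ▸ hlt.trans_le (Nat.mul_le_mul_left p hk)), fun h => ?_⟩
  exact (commutator_eq_bot_iff _).1 (Subgroup.card_eq_one.1 (commutator_card_eq_one_of_many hp2 hp'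
    (hcard.symm ▸ h.trans_le (Nat.mul_le_mul_left _ hk))))

end Cfsg.Agent.Lib.PiClasses98
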