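import Cfsg.Agent.Lib.PiClasses98.Complement

/-!
# Classes of π-elements: the count over the classes of `q`-elements
-/

set_option autoImplicit false

namespace Cfsg.Agent.Lib.PiClasses98

open Cfsg.Agent.Lib.PiClasses

universe u

/-- The inductive statement: many classes of σ-elements force a nilpotent Hall σ-subgroup. -/
def Forces (p : ℕ) (σ : Finset ℕ) : Prop :=
  ∀ (G : Type u) [Group G] [Finite G],
    piPart σ (Nat.card G) < p * Nat.card (PiCls σ G) → ∃ H : Subgroup G, IsNilHall σ H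

variable {G : Type u} [Group G] [Finite G]

/-- A nilpotent Hall subgroup is one in every subgroup containing it. -/
theorem IsNilHall.subgroupOf {σ : Finset ℕ} (hσ : ∀ s ∈ σ, s.Prime) {K C : Subgroup G}
    (hK : IsNilHall σ K) (hKC : K ≤ C) : IsNilHall σ (K.subgroupOf C) := by
  refine ⟨(Group.isNilpotent_congr (Subgroup.subgroupOfEquivOfLe hKC)).2 hK.1, ?_⟩
  rw [Nat.card_congr (Subgroup.subgroupOfEquivOfLe hKC).toEquiv]
  refine Nat.dvd_antisymm (dvd_piPart hσ Nat.card_pos.ne' Nat.card_pos.ne'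
    (Subgroup.card_dvd_of_le hKC) fun s hs hd => mem_of_dvd_piPart hσ hs (hK.2 ▸ hd)) ?_
  rw [hK.2]
  exact piPart_dvd_piPart Nat.card_pos.ne' Nat.card_pos.ne' C.card_subgroup_dvd_card

/-- Classes of σ-elements of an overgroup of a nilpotent Hall subgroup. -/
theorem card_piClasses_le_hall {σ : Finset ℕ} (hσ : ∀ s ∈ σ, s.Prime) {K C : Subgroup G}
    (hK : IsNilHall σ K) (hKC : K ≤ C) :
    Nat.card (PiCls σ C) ≤ Nat.card (ConjClasses K) := by
  refine (card_piClasses_le_of_conj_mem (K.subgroupOf C)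
    fun x hx => (hK.subgroupOf hσ hKC).exists_conj_mem hσ hx).trans ?_
  have : Finite (ConjClasses K) := Finite.of_surjective _ ConjClasses.mk_surjective
  exact Nat.card_le_card_of_surjective _ (ConjClasses.map_surjective
    (f := (Subgroup.subgroupOfEquivOfLe hKC).symm.toMonoidHom)
    (Subgroup.subgroupOfEquivOfLe hKC).symm.surjective)

theorem card_conjClasses_le_card (K : Subgroup G) : Nat.card (ConjClasses K) ≤ Nat.card K :=
  Nat.card_le_card_of_surjective _ ConjClasses.mk_surjective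

/-- Nonabelian Hall subgroup: few classes. -/
theorem two_p_card_conjClasses_le {p : ℕ} (hp2 : 2 ≤ p) {K : Subgroup G}
    (hp : ∀ s : ℕ, s.Prime → s ∣ Nat.card K → p ≤ s) (hab : ¬ IsMulCommutative K) :
    2 * p * Nat.card (ConjClasses K) ≤ (p + 1) * Nat.card K := by
  have hne : ¬ Nat.card K * (p ^ 2 + p - 1) < p ^ 3 * Nat.card (ConjClasses K) := fun h =>
    hab ((commutator_eq_bot_iff _).1 (Subgroup.card_eq_one.1
      (commutator_card_eq_one_of_many hp2 hp h)))
  push Not at hne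
  have hle : 2 * (p ^ 2 + p - 1) ≤ p ^ 2 * (p + 1) := by
    have : 2 * (p ^ 2 + p) ≤ p ^ 2 * (p + 1) + 2 := by
      nlinarith [Nat.mul_le_mul_right (p * p) hp2]
    omega
  refine Nat.le_of_mul_le_mul_left (?_ : p ^ 2 * (2 * p * Nat.card (ConjClasses K)) ≤
    p ^ 2 * ((p + 1) * Nat.card K)) (by positivity)
  calc p ^ 2 * (2 * p * Nat.card (ConjClasses K))
      = 2 * (p ^ 3 * Nat.card (ConjClasses K)) := by ring
    _ ≤ 2 * (Nat.card K * (p ^ 2 + p - 1)) := Nat.mul_le_mul_left 2 hne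
    _ = (2 * (p ^ 2 + p - 1)) * Nat.card K := by ring
    _ ≤ p ^ 2 * (p + 1) * Nat.card K := Nat.mul_le_mul_right _ hle
    _ = p ^ 2 * ((p + 1) * Nat.card K) := by ring

/-- An element moving `K` inside the centralizer saves classes. -/
theorem two_p_card_piClasses_le_of_moving {σ : Finset ℕ} (hσ : ∀ s ∈ σ, s.Prime) {p : ℕ}
    (hp : ∀ s ∈ σ, p ≤ s) {K C : Subgroup G} (hK : IsNilHall σ K) (hKC : K ≤ C) {a : G}
    (haC : a ∈ C) (haK : a ∈ Subgroup.normalizer (K : Set G))
    (ha : a ∉ Subgroup.centralizer (K : Set G)) :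
    2 * p * Nat.card (PiCls σ C) ≤ (p + 1) * Nat.card K := by
  classical
  have hmem : ∀ x : K, IsPiEl σ (⟨x, hKC x.2⟩ : C) := fun x => isPiEl_coe.2
    (isPiEl_of_mem (fun s hs hd => mem_of_dvd_piPart hσ hs (hK.2 ▸ hd)) x.2)
  let f : K → PiCls σ C := fun x => piClass _ (hmem x)
  have hf : Function.Surjective f := by
    intro c
    obtain ⟨y, hy, rfl⟩ := piClass_surjective c
    obtain ⟨g, hg⟩ := (hK.subgroupOf hσ hKC).exists_conj_mem hσ hy
    exact ⟨⟨_, hg⟩, Subtype.ext (ConjClasses.mk_eq_mk_iff_isConj.2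
      (IsConj.symm (isConj_iff.2 ⟨g, Subtype.ext rfl⟩)))⟩
  set F := (Subgroup.centralizer ({a} : Set G)).subgroupOf K with hF
  have hb := mul_card_le_of_fibers hf (F : Set K) (m := 2) ?_
  · simp only [SetLike.coe_sort_coe, Nat.add_one_sub_one, one_mul] at hb
    have hFne : Nat.card F ≠ Nat.card K := fun h => ha (by
      refine Subgroup.mem_centralizer_iff.2 fun y hy => ?_
      have htop : F = ⊤ := (Subgroup.card_eq_iff_eq_top F).1 h
      exact Subgroup.mem_centralizer_singleton_iff.1 (Subgroup.subgroupOf_eq_top.1 htop hy))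
    have hdvd : Nat.card F ∣ piPart σ (Nat.card G) := hK.2 ▸ F.card_subgroup_dvd_card
    have := mul_le_of_dvd_of_ne hσ hp hdvd (hK.2 ▸ hFne)
    rw [← hK.2] at this
    nlinarith [Nat.mul_le_mul_left p hb]
  intro x hx
  have hax : a * x * a⁻¹ ∈ K := (Subgroup.mem_normalizer_iff.1 haK x).1 x.2
  have hne : x ≠ ⟨_, hax⟩ := fun he => hx (Subgroup.mem_centralizer_singleton_iff.2 (by
    have := congrArg (fun t : K => (t : G)) he
    exact eq_mul_inv_iff_mul_eq.1 this))
  refine (Finset.card_pair hne).symm.le.trans ?_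
  rw [← Nat.card_eq_finsetCard]
  refine Nat.card_le_card_of_injective
    (fun y => (⟨y.1, ?_⟩ : {y // f y = f x})) fun y z hyz =>
      Subtype.ext (congrArg (fun t => t.1) hyz)
  obtain ⟨y, hy⟩ := y
  simp only [Finset.mem_insert, Finset.mem_singleton] at hy
  rcases hy with rfl | rfl
  · rfl
  · exact Subtype.ext (ConjClasses.mk_eq_mk_iff_isConj.2
      (IsConj.symm (isConj_iff.2 ⟨⟨a, haC⟩, rfl⟩)))

/-- Frattini: a normaliser element not centralising can be chosen to normalise `Q₀` too. -/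
theorem exists_moving {q : ℕ} [hq : Fact q.Prime] {K Q₀ : Subgroup G}
    (hQ₀ : Q₀ ≤ Subgroup.centralizer (K : Set G))
    (hcard : Nat.card Q₀ = q ^ (Nat.card (Subgroup.centralizer (K : Set G))).factorization q)
    (hne : ¬ Subgroup.normalizer (K : Set G) ≤ Subgroup.centralizer (K : Set G)) :
    ∃ a, a ∈ Subgroup.normalizer (K : Set G) ∧ a ∉ Subgroup.centralizer (K : Set G) ∧
      ∀ x ∈ Q₀, a * x * a⁻¹ ∈ Q₀ := by
  obtain ⟨g, hg, hgc⟩ := SetLike.not_le_iff_exists.1 hne
  set C := Subgroup.centralizer (K : Set G) with hC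
  have hgC : ∀ x : Q₀, g * x * g⁻¹ ∈ C := fun x => Subgroup.mem_centralizer_iff.2 fun y hy => by
    have hy' : g⁻¹ * y * g ∈ K := (Subgroup.mem_normalizer_iff''.1 hg y).1 hy
    have h := Subgroup.mem_centralizer_iff.1 (hQ₀ x.2) _ hy'
    calc y * (g * x * g⁻¹) = g * (g⁻¹ * y * g * x) * g⁻¹ := by group
      _ = g * (x * (g⁻¹ * y * g)) * g⁻¹ := by rw [h]
      _ = g * x * g⁻¹ * y := by group
  let ψ : Q₀ →* C := ((MulAut.conj g).toMonoidHom.comp Q₀.subtype).codRestrict C hgC
  have hψ : ∀ x : Q₀, (ψ x : G) = g * x * g⁻¹ := fun _ => rfl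
  have hQ' : IsNilHall {q} (Q₀.subgroupOf C) :=
    ⟨(Group.isNilpotent_congr (Subgroup.subgroupOfEquivOfLe hQ₀)).2
        (IsPGroup.of_card hcard).isNilpotent,
      by rw [Nat.card_congr (Subgroup.subgroupOfEquivOfLe hQ₀).toEquiv, piPart_singleton, hcard]⟩
  obtain ⟨c, hc⟩ := hQ'.exists_conj (by simp [hq.out]) (K := ψ.range) fun s hs hsd => by
    have h1 := hsd.trans (Subgroup.card_range_dvd ψ)
    rw [hcard] at h1
    exact Finset.mem_singleton.2 ((Nat.prime_dvd_prime_iff_eq hs hq.out).1 (hs.dvd_of_dvd_pow h1))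
  refine ⟨c * g, mul_mem (Subgroup.centralizer_le_normalizer _ c.2) hg, fun h => hgc ?_, fun x hx => ?_⟩
  · simpa [hC] using mul_mem (inv_mem c.2) h
  · have h1 : ((c * ψ ⟨x, hx⟩ * c⁻¹ : C) : G) ∈ Q₀ := hc _ ⟨⟨x, hx⟩, rfl⟩
    simpa [hψ, mul_assoc] using h1

set_option maxHeartbeats 800000 in
/-- The count over classes of `q`-elements in the critical configuration. -/
theorem mul_card_piClasses_le_of_critical {π : Finset ℕ} (hπ : ∀ s ∈ π, s.Prime) {p : ℕ}
    (hp2 : 2 ≤ p) (hp : ∀ s ∈ π, p ≤ s) {q : ℕ} (hq : q ∈ π) (hpq : p + 1 ≤ q)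
    (ih : Forces.{u} p (π.erase q)) {K : Subgroup G} (hK : IsNilHall (π.erase q) K)
    {Q : Subgroup G} (hQ : Nat.card Q = q ^ (Nat.card G).factorization q)
    (hQ₀ : Nat.card ↥(Q ⊓ Subgroup.centralizer (K : Set G)) =
      q ^ (Nat.card (Subgroup.centralizer (K : Set G))).factorization q)
    (hQK : ¬ Q ≤ Subgroup.centralizer (K : Set G))
    {n : G} (hn : n ∈ Subgroup.normalizer (Q : Set G)) (hnQ : n ∉ Subgroup.centralizer (Q : Set G))
    (hcase : IsMulCommutative K →
      ¬ Subgroup.normalizer (K : Set G) ≤ Subgroup.centralizer (K : Set G)) :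
    p * Nat.card (PiCls π G) ≤ piPart π (Nat.card G) := by
  classical
  haveI := Fact.mk (hπ q hq)
  set π' := π.erase q with hπ'def
  have hπ' : ∀ s ∈ π', s.Prime := fun s hs => hπ s (Finset.mem_of_mem_erase hs)
  have hp' : ∀ s ∈ π', p ≤ s := fun s hs => hp s (Finset.mem_of_mem_erase hs)
  set Q₀ := Q ⊓ Subgroup.centralizer (K : Set G) with hQ₀def
  have hQpg : IsPGroup q Q := IsPGroup.of_card hQ
  have hQel : ∀ x ∈ Q, IsPiEl {q} x := fun x hx => isPiEl_of_mem (fun s hs hd => by
    rw [hQ] at hd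
    exact Finset.mem_singleton.2
      ((Nat.prime_dvd_prime_iff_eq hs (hπ q hq)).1 (hs.dvd_of_dvd_pow hd))) hx
  have hQhall : IsNilHall {q} Q := ⟨hQpg.isNilpotent, by rw [piPart_singleton, hQ]⟩
  let cls : Q → PiCls {q} G := fun x => piClass x.1 (hQel x.1 x.2)
  have hcls : Function.Surjective cls := by
    intro c
    obtain ⟨y, hy, rfl⟩ := piClass_surjective c
    obtain ⟨g, hg⟩ := hQhall.exists_conj_mem (by simp [hπ q hq]) hy
    exact ⟨⟨_, hg⟩, Subtype.ext (ConjClasses.mk_eq_mk_iff_isConj.2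
      (IsConj.symm (isConj_iff.2 ⟨g, rfl⟩)))⟩
  let cls₀ : Q₀ → PiCls {q} G := fun x => cls ⟨x.1, x.2.1⟩
  let Good : PiCls {q} G → Prop := fun c => ∃ x, cls₀ x = c
  choose rep₀ hrep₀ using hcls
  let rep : PiCls {q} G → G := fun c => if h : Good c then (h.choose : G) else (rep₀ c : G)
  have hrep : ∀ c, ConjClasses.mk (rep c) = c.1 := fun c => by
    simp only [rep]
    split
    · rename_i h; exact congrArg Subtype.val h.choose_spec
    · exact congrArg Subtype.val (hrep₀ c)
  have := Fintype.ofFinite (PiCls {q} G)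
  have := Fintype.ofFinite Q₀
  have hsum := card_piClasses_le_sum (π := π) rep hrep
  rw [show π \ {q} = π' from Finset.sdiff_singleton_eq_erase q π] at hsum
  let w : PiCls {q} G → ℕ := fun c =>
    if Good c then (p + 1) * (Finset.univ.filter fun x => cls₀ x = c).card else 2
  have hterm : ∀ c, 2 * p * Nat.card (PiCls π' ↥(Subgroup.centralizer ({rep c} : Set G))) ≤
      w c * Nat.card K := by
    intro c
    set C := Subgroup.centralizer ({rep c} : Set G) with hC
    by_cases hgood : Good c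
    · simp only [w, if_pos hgood]
      have hrc : rep c ∈ Q₀ := by
        simp only [rep, dif_pos hgood]; exact hgood.choose.2
      have hKC : K ≤ C := fun y hy => Subgroup.mem_centralizer_singleton_iff.2
        (Subgroup.mem_centralizer_iff.1 hrc.2 y hy)
      have hrcls : cls₀ ⟨rep c, hrc⟩ = c := Subtype.ext (hrep c)
      set S := Finset.univ.filter fun x : Q₀ => cls₀ x = c
      have hmemS : (⟨rep c, hrc⟩ : Q₀) ∈ S := Finset.mem_filter.2 ⟨Finset.mem_univ _, hrcls⟩
      by_cases h2 : 2 ≤ S.card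
      · calc 2 * p * Nat.card (PiCls π' C) ≤ 2 * p * Nat.card K :=
              Nat.mul_le_mul_left _ ((card_piClasses_le_hall hπ' hK hKC).trans
                (card_conjClasses_le_card K))
          _ ≤ (p + 1) * 2 * Nat.card K := Nat.mul_le_mul_right _ (by omega)
          _ ≤ (p + 1) * S.card * Nat.card K :=
              Nat.mul_le_mul_right _ (Nat.mul_le_mul_left _ h2)
      have hS1 : S.card = 1 := by
        have := Finset.card_pos.2 ⟨_, hmemS⟩
        omega
      rw [hS1, mul_one]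
      by_cases hab : IsMulCommutative K
      · obtain ⟨a, haN, haC, haQ⟩ := exists_moving (q := q) (Q₀ := Q₀) inf_le_right hQ₀ (hcase hab)
        refine two_p_card_piClasses_le_of_moving hπ' hp' hK hKC ?_ haN haC
        have hax := haQ _ hrc
        have hacls : cls₀ ⟨_, hax⟩ = cls₀ ⟨rep c, hrc⟩ := Subtype.ext
          (ConjClasses.mk_eq_mk_iff_isConj.2 (IsConj.symm (isConj_iff.2 ⟨a, rfl⟩)))
        have hS' : (⟨_, hax⟩ : Q₀) ∈ S :=
          Finset.mem_filter.2 ⟨Finset.mem_univ _, hacls.trans hrcls⟩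
        have := congrArg (fun t : Q₀ => (t : G)) (Finset.card_le_one.1 hS1.le _ hS' _ hmemS)
        exact Subgroup.mem_centralizer_singleton_iff.2 (mul_inv_eq_iff_eq_mul.1 this)
      · refine (Nat.mul_le_mul_left _ (card_piClasses_le_hall hπ' hK hKC)).trans ?_
        exact two_p_card_conjClasses_le hp2
          (fun s hs hd => hp' s (mem_of_dvd_piPart hπ' hs (hK.2 ▸ hd))) hab
    · simp only [w, if_neg hgood]
      rw [mul_assoc]
      refine Nat.mul_le_mul_left 2 ?_
      by_contra hlt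
      push Not at hlt
      have hle : piPart π' (Nat.card C) ≤ Nat.card K := hK.2 ▸ piPart_centralizer_le _ hπ' C
      have hdvd : piPart π' (Nat.card C) ∣ piPart π' (Nat.card G) :=
        piPart_dvd_piPart Nat.card_pos.ne' Nat.card_pos.ne' C.card_subgroup_dvd_card
      have hfull : piPart π' (Nat.card C) = piPart π' (Nat.card G) := by
        by_contra hne
        have h1 := mul_le_of_dvd_of_ne hπ' hp' hdvd hne
        rw [← hK.2] at h1
        have h2 := Nat.mul_le_mul_left p (card_piClasses_le_piPart hπ' C)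
        omega
      obtain ⟨L, hL⟩ := ih C (hle.trans_lt hlt)
      set L' := L.map C.subtype with hL'
      have hL'hall : IsNilHall π' L' :=
        ⟨(Group.isNilpotent_congr (L.equivMapOfInjective _ C.subtype_injective)).1 hL.1,
          by rw [hL', Subgroup.card_map_of_injective C.subtype_injective, hL.2, hfull]⟩
      obtain ⟨g, hg⟩ := hL'hall.exists_conj hπ' (K := K)
        fun s hs hd => mem_of_dvd_piPart hπ' hs (hK.2 ▸ hd)
      -- `g⁻¹ (rep c) g` centralises `K`
      have hx : g⁻¹ * rep c * g ∈ Subgroup.centralizer (K : Set G) := by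
        refine Subgroup.mem_centralizer_iff.2 fun y hy => ?_
        have h1 := Subgroup.mem_centralizer_singleton_iff.1 (Subgroup.map_subtype_le L (hg y hy))
        calc y * (g⁻¹ * rep c * g) = g⁻¹ * (g * y * g⁻¹ * rep c) * g := by group
          _ = g⁻¹ * (rep c * (g * y * g⁻¹)) * g := by rw [h1]
          _ = g⁻¹ * rep c * g * y := by group
      set D := Subgroup.centralizer (K : Set G)
      have hQ₀hall : IsNilHall {q} (Q₀.subgroupOf D) :=
        ⟨(Group.isNilpotent_congr (Subgroup.subgroupOfEquivOfLe (inf_le_right : Q₀ ≤ D))).2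
            (IsPGroup.of_card hQ₀).isNilpotent,
          by rw [Nat.card_congr (Subgroup.subgroupOfEquivOfLe (inf_le_right : Q₀ ≤ D)).toEquiv,
            piPart_singleton, hQ₀]⟩
      have hrq : IsPiEl {q} (rep c) := c.2 _ (ConjClasses.mem_carrier_iff_mk_eq.2 (hrep c))
      obtain ⟨d, hd⟩ := hQ₀hall.exists_conj_mem (by simp [hπ q hq]) (x := (⟨_, hx⟩ : D))
        (isPiEl_coe.2 (by simpa using hrq.conj g⁻¹))
      refine hgood ⟨⟨(d : G) * (g⁻¹ * rep c * g) * (d : G)⁻¹, hd⟩, Subtype.ext ?_⟩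
      change ConjClasses.mk _ = c.1
      rw [← hrep c]
      exact ConjClasses.mk_eq_mk_iff_isConj.2
        (IsConj.symm (isConj_iff.2 ⟨(d : G) * g⁻¹, by group⟩))
  have hW : ∑ c, w c = (p + 1) * Nat.card Q₀ +
      2 * Nat.card {c : PiCls {q} G // ¬ Good c} := by
    have h1 : ∀ c, w c = (p + 1) * (Finset.univ.filter fun x => cls₀ x = c).card +
        2 * (if ¬ Good c then 1 else 0) := fun c => by
      by_cases hgood : Good c
      · simp [w, hgood]
      · have : (Finset.univ.filter fun x => cls₀ x = c) = ∅ :=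
          Finset.filter_eq_empty_iff.2 fun x _ hx => hgood ⟨x, hx⟩
        simp [w, hgood, this]
    rw [Finset.sum_congr rfl fun c _ => h1 c, Finset.sum_add_distrib, ← Finset.mul_sum,
      ← Finset.mul_sum, ← Finset.card_eq_sum_card_fiberwise (fun _ _ => Finset.mem_univ _),
      Finset.card_univ, ← Nat.card_eq_fintype_card, Finset.sum_boole, Nat.cast_id,
      Nat.card_eq_fintype_card (α := {c : PiCls {q} G // ¬ Good c}), Fintype.card_subtype]
  -- the bad classes
  set F := (Subgroup.centralizer ({n} : Set G)).subgroupOf Q with hF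
  have hFne : F ≠ ⊤ := fun ht => hnQ (Subgroup.mem_centralizer_iff.2 fun y hy =>
    Subgroup.mem_centralizer_singleton_iff.1 (Subgroup.subgroupOf_eq_top.1 ht hy))
  let A := {x : Q // ¬ Good (cls x)}
  let f : A → {c : PiCls {q} G // ¬ Good c} := fun x => ⟨cls x.1, x.2⟩
  have hf : Function.Surjective f := fun c =>
    ⟨⟨rep₀ c.1, by rw [hrep₀]; exact c.2⟩, Subtype.ext (hrep₀ c.1)⟩
  have hbad := mul_card_le_of_fibers hf {x : A | x.1 ∈ F} (m := 2) ?_
  · have hfix : Nat.card {x : A | x.1 ∈ F} ≤ Nat.card F :=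
      Nat.card_le_card_of_injective (fun x => (⟨x.1.1, x.2⟩ : F)) fun a b hab =>
        Subtype.ext (Subtype.ext (congrArg (fun t : F => (t : Q)) hab))
    have hA : Nat.card Q₀ + Nat.card A ≤ Nat.card Q := by
      rw [← Nat.card_sum]
      refine Nat.card_le_card_of_injective
        (Sum.elim (fun x : Q₀ => (⟨x.1, x.2.1⟩ : Q)) fun a : A => a.1) ?_
      rintro (x | a) (y | b) hab
      · exact congrArg Sum.inl (Subtype.ext (congrArg (fun t : Q => (t : G)) hab))
      · exact absurd ⟨x, congrArg cls hab⟩ b.2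
      · exact absurd ⟨y, congrArg cls hab.symm⟩ a.2
      · exact congrArg Sum.inr (Subtype.ext hab)
    have hqF := prime_mul_card_le hQpg hFne
    have hqQ₀ : q * Nat.card Q₀ ≤ Nat.card Q := by
      rw [← Nat.card_congr (Subgroup.subgroupOfEquivOfLe (inf_le_left : Q₀ ≤ Q)).toEquiv]
      refine prime_mul_card_le hQpg fun h => hQK fun x hx => ?_
      exact ((Subgroup.subgroupOf_eq_top.1 h) hx).2
    have hk : 2 * p * Nat.card (PiCls π G) ≤ (∑ c, w c) * Nat.card K := by
      rw [Finset.sum_mul]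
      refine (Nat.mul_le_mul_left _ hsum).trans ?_
      rw [Finset.mul_sum]
      exact Finset.sum_le_sum fun c _ => hterm c
    rw [hW] at hk
    rw [piPart_erase hq, ← hQ, ← hK.2]
    simp only [Nat.add_one_sub_one, one_mul] at hbad
    set b := Nat.card {c : PiCls {q} G // ¬ Good c}
    set Q0c := Nat.card Q₀
    set Qc := Nat.card Q
    set Kc := Nat.card K
    set k := Nat.card (PiCls π G)
    set Fc := Nat.card F
    set Ac := Nat.card A
    set Xc := Nat.card {x : A | x.1 ∈ F}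
    have h3 : q * ((p + 1) * Q0c + 2 * b) ≤ 2 * q * Qc := by
      have h4 : (p + 1) * Q0c + 2 * b ≤ p * Q0c + Qc + Fc := by
        rw [Nat.add_mul, one_mul]; omega
      refine (Nat.mul_le_mul_left q h4).trans ?_
      calc q * (p * Q0c + Qc + Fc) = p * (q * Q0c) + q * Qc + q * Fc := by ring
        _ ≤ p * Qc + q * Qc + Qc :=
          Nat.add_le_add (Nat.add_le_add_right (Nat.mul_le_mul_left p hqQ₀) _) hqF
        _ = (p + 1 + q) * Qc := by ring
        _ ≤ 2 * q * Qc := Nat.mul_le_mul_right _ (by omega)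
    refine Nat.le_of_mul_le_mul_left (?_ : 2 * q * (p * k) ≤ 2 * q * (Qc * Kc))
      (by have := (hπ q hq).pos; omega)
    calc 2 * q * (p * k) = q * (2 * p * k) := by ring
      _ ≤ q * (((p + 1) * Q0c + 2 * b) * Kc) := Nat.mul_le_mul_left q hk
      _ = q * ((p + 1) * Q0c + 2 * b) * Kc := by ring
      _ ≤ 2 * q * Qc * Kc := Nat.mul_le_mul_right _ h3
      _ = 2 * q * (Qc * Kc) := by ring
  intro x hx
  have hnx : n * x.1.1 * n⁻¹ ∈ Q := (Subgroup.mem_normalizer_iff.1 hn x.1.1).1 x.1.2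
  have hne : x.1 ≠ ⟨_, hnx⟩ := fun he => hx (Subgroup.mem_centralizer_singleton_iff.2 (by
    have := congrArg (fun t : Q => (t : G)) he
    exact eq_mul_inv_iff_mul_eq.1 this))
  have hclseq : cls ⟨_, hnx⟩ = cls x.1 :=
    Subtype.ext (ConjClasses.mk_eq_mk_iff_isConj.2 (IsConj.symm (isConj_iff.2 ⟨n, rfl⟩)))
  have hne' : x ≠ (⟨⟨_, hnx⟩, by rw [hclseq]; exact x.2⟩ : A) :=
    fun h => hne (congrArg (fun t : A => t.1) h)
  refine (Finset.card_pair hne').symm.le.trans ?_
  rw [← Nat.card_eq_finsetCard]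
  refine Nat.card_le_card_of_injective
    (fun y => (⟨y.1, ?_⟩ : {y // f y = f x})) fun y z hyz =>
      Subtype.ext (congrArg (fun t => t.1) hyz)
  obtain ⟨y, hy⟩ := y
  simp only [Finset.mem_insert, Finset.mem_singleton] at hy
  rcases hy with rfl | rfl
  · rfl
  · exact Subtype.ext hclseq

end Cfsg.Agent.Lib.PiClasses98
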